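import Cfsg.Agent.H58.TCPres

set_option autoImplicit false
set_option Elab.async false
set_option maxRecDepth 100000

namespace Cfsg.Agent.H63.HnZ7

open Cfsg.Agent.H58

noncomputable def tb0 : Nat → Nat := (lf (nat_lit 0x3800000d000003000000b000003400000e000002c00000c000010c0000440000108000041000001800004500000000000000000000000000000000000000000000000000000000000000000000000000000000000000000000000000000000000000000000000000000000000000000000000000000000000000000000000000000000000000000000000000000000000000000000000000000000000000000000000000000000000000000000000000000000000000000000000000000000000000000000000000000000000000000000000000000000000000000000000000000000028000009000001000000300000080000010000118000005))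
noncomputable def rk0 : Nat → Nat := (lf (nat_lit 0x100000))
noncomputable def st0 : Nat → Nat := (lf (nat_lit 0x1808000030100000e00000c0000200000300000800000c0000180000300008e00010c0002180004300008a00010c0002280004300008a000108000220000420000880001080002100004200000e0000080000100000200000a0000080000280000200000a00000c0000200000300000800000c0000180000300008e00010c0002180004300008a00010c0002280004300008a620001100000000000200000200000400001000001000004000004000228000410000860001040002180004100008200010c000200000420000842800010c0001e800042030000820000fc000200180003f01))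
def iv : Nat := 255740652881964560462909568

def rels : List (List Nat) := [[5, 1, 6, 1],
  [5, 2, 6, 2],
  [5, 3, 6, 10],
  [5, 4, 6, 9],
  [5, 9, 6, 4],
  [5, 10, 6, 3],
  [3, 3, 3, 3, 3, 3],
  [1, 1, 3, 1, 1, 4],
  [2, 4, 1, 3, 2, 4, 1, 3, 2, 4, 1, 3],
  [2, 3, 3, 1, 3, 3, 3, 2, 3, 3, 1, 3, 3, 3, 2, 3, 3, 1, 3, 3, 3],
  [1, 3, 1, 3, 1, 3, 1, 3, 1, 3, 1, 3, 1, 3, 1, 3],
  [1, 3, 1, 3, 3, 3, 1, 3, 1, 3, 3, 3, 1, 3, 1, 3, 3, 3, 1, 3, 1, 3, 3, 3],
  [1, 1, 1, 1],
  [5, 5],
  [5, 1, 5, 1],
  [12, 6, 3, 2, 4, 4, 2, 4, 2, 4, 5, 3, 1, 3, 1, 3, 3, 1, 4, 2, 2],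
  [14, 5, 4, 2, 4, 2, 4, 4, 4, 5, 3, 3, 3, 1, 3, 1, 3, 1, 4, 2, 4, 2, 4, 4, 4, 5, 3, 3, 3, 1, 3, 1, 3, 1, 4, 2, 4, 2, 4, 4, 4, 5, 3, 3, 3, 1, 3, 1, 3, 1],
  [12, 2, 11, 1],
  [12, 4, 11, 3],
  [12, 10, 11, 9],
  [12, 6, 11, 5],
  [14, 2, 13, 1],
  [14, 4, 13, 3],
  [14, 10, 13, 9],
  [14, 6, 13, 5],
  [14, 12, 13, 11]]

noncomputable def tbl : Nat → Nat := (nd (nat_lit 1) tb0 (lf (nat_lit 0)))
noncomputable def rnk : Nat → Nat := (nd (nat_lit 1) rk0 (lf (nat_lit 0)))
noncomputable def str : Nat → Nat := (nd (nat_lit 1) st0 (lf (nat_lit 0)))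
noncomputable def clo : Nat → Nat := (lf (nat_lit 0))
def tree : ST := (ST.node (ST.node (ST.node (ST.node ST.nil (nat_lit 1) (nat_lit 0) (nat_lit 0) ST.nil) (nat_lit 4421) (nat_lit 27) (nat_lit 1) ST.nil) (nat_lit 4875) (nat_lit 0) (nat_lit 11) (ST.node ST.nil (nat_lit 5005) (nat_lit 0) (nat_lit 13) ST.nil)) (nat_lit 18354497) (nat_lit 1) (nat_lit 3) (ST.node (ST.node ST.nil (nat_lit 18387268) (nat_lit 9) (nat_lit 3) ST.nil) (nat_lit 87771889482908322970196604759210209676) (nat_lit 31) (nat_lit 0) (ST.node ST.nil (nat_lit 2070364770087405689789984220267407801148823151803416878294991992248296990275834847372525902) (nat_lit 33) (nat_lit 0) ST.nil)))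

theorem d0 : sumPow (grd 1 (defn tbl rnk (okPair iv))) 6 0 = 0 := by decide +kernel
theorem s0 : sumPow (grd 1 (chunk tbl (okRule iv tree) str 9)) 3 0 = 0 := by decide +kernel

noncomputable def C : Cert := ⟨tbl, rnk, str, clo, tree, 1, 31, 9, 1, [1, 3, 9]⟩

theorem good : C.Good rels iv :=
  ⟨by decide, by decide +kernel,
   all_lt_of_gblocks _ 6 1 1 (by decide) (blocks_cons (blocks_nil _) d0),
   by decide +kernel,
   all_lt_of_gblocks _ 3 1 1 (by decide) (blocks_cons (blocks_nil _) s0)⟩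

theorem goal11 {G : Type*} [Group G] {el : ℕ → G} (R : RuleOK el rels iv) (H : Subgroup G)
    (hfix : ∀ x ∈ ([1, 3, 9] : List ℕ), el x ∈ H) : el 11 ∈ H :=
  Cert.goal_mem good R H hfix (i := 586) (by decide +kernel) (by decide +kernel)

theorem goal13 {G : Type*} [Group G] {el : ℕ → G} (R : RuleOK el rels iv) (H : Subgroup G)
    (hfix : ∀ x ∈ ([1, 3, 9] : List ℕ), el x ∈ H) : el 13 ∈ H :=
  Cert.goal_mem good R H hfix (i := 588) (by decide +kernel) (by decide +kernel)


end Cfsg.Agent.H63.HnZ7
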